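import Cfsg.Agent.AltCent.Fixed
import Cfsg.Agent.AltCent.FiveA.Data
import Cfsg.Agent.AltCent.FiveA.Reps
import Cfsg.Agent.AltCent.FiveA.Terms0
import Cfsg.Agent.AltCent.FiveA.Terms1
import Cfsg.Agent.AltCent.FiveA.Terms2
import Cfsg.Agent.AltCent.FiveA.Terms3
import Cfsg.Agent.AltCent.FiveA.Terms4
import Cfsg.Agent.AltCent.FiveA.Terms5
import Cfsg.Agent.AltCent.FiveA.Terms6
import Cfsg.Agent.AltCent.FiveA.Terms7
import Cfsg.Agent.AltCent.FiveA.Terms8
import Cfsg.Agent.AltCent.FiveA.Terms9
import Cfsg.Agent.AltCent.FiveA.Terms10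
import Cfsg.Agent.AltCent.FiveA.Terms11

/-! # FiveA: conclusion (generated certificate data) -/

set_option autoImplicit false
set_option maxRecDepth 100000
set_option maxHeartbeats 4000000

namespace CfsgLib.AltCent.FiveA

def terms : List Term := terms0 ++ terms1 ++ terms2 ++ terms3 ++ terms4 ++ terms5 ++ terms6 ++ terms7 ++ terms8 ++ terms9 ++ terms10 ++ terms11

theorem sum_ok : eqMod 5 (termPairs 5 bases T B terms) [(0, 1)] [(1, 3), (2, 1), (3, 5), (4, 2), (5, 6), (6, 1), (7, 9), (8, 6), (9, 8), (10, 5), (11, 8), (12, 6), (13, 5), (14, 3), (15, 5), (16, 4), (17, 4), (18, 4), (19, 6), (20, 4), (21, 5), (22, 2), (23, 4), (24, 5), (25, 4), (26, 3), (27, 8), (28, 6), (29, 3), (30, 6), (31, 3), (32, 6), (33, 4), (34, 4), (35, 5), (36, 5), (37, 4), (38, 5), (39, 4), (40, 5), (41, 4), (42, 3), (43, 5), (44, 5), (45, 6), (46, 5), (47, 5), (48, 5), (49, 6), (50, 4), (51, 4), (52, 6), (53, 6), (54, 5), (55, 7), (56, 5), (57, 5), (58, 7), (59, 7), (60, 6), (61, 3), (62, 8), (63, 4), (64,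 5), (65, 6), (66, 8), (67, 4), (68, 4), (69, 5), (70, 6), (71, 3), (72, 3), (73, 2), (74, 4), (75, 6), (76, 4), (77, 2), (78, 5), (79, 5), (80, 3), (81, 3), (82, 4), (83, 6), (84, 4), (85, 8), (86, 7), (87, 5), (88, 5), (89, 6), (90, 4), (91, 5), (92, 5), (93, 6), (94, 4), (95, 3), (96, 5), (97, 3), (98, 5), (99, 3), (100, 5), (101, 4), (102, 5), (103, 4), (104, 5), (105, 6), (106, 8), (107, 7), (108, 7), (109, 4), (110, 7), (111, 4), (112, 3), (113, 6), (114, 4), (115, 1), (116, 1), (117, 1), (118, 4), (119, 8), (120, 7), (121, 4), (122, 6), (123, 5), (124, 6), (125, 6), (126, 5), (127, 3), (128, 6), (129, 8), (130, 5), (131, 7), (132, 7), (133, 7), (134, 4), (135, 4), (136, 5), (137, 2), (138, 5), (139, 4), (140, 4), (141, 3), (142, 6), (143, 5), (144, 2), (145, 7), (146, 3), (147, 4), (148, 2), (149, 4), (150, 5), (151, 3), (152, 8), (153, 3), (154, 5), (155, 5), (156, 4), (157, 4), (158, 3), (159, 6), (160, 3), (161, 3), (162, 1), (163, 4), (164, 2), (165, 4), (166, 5), (167, 6),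 (168, 6), (169, 4), (170, 6), (171, 5), (172, 6), (173, 7), (174, 9), (175, 4), (176, 6), (177, 6), (178, 6), (179, 5), (180, 7), (181, 7), (182, 4), (183, 8), (184, 3), (185, 5), (186, 2), (187, 4), (188, 2), (189, 2), (190, 4), (191, 4), (192, 4), (193, 7), (194, 3), (195, 4), (196, 6), (197, 5), (198, 6), (199, 5), (200, 4), (201, 4), (202, 5), (203, 4), (204, 4), (205, 5), (206, 4), (207, 6), (208, 3), (209, 3), (210, 3), (211, 4), (212, 4), (213, 5), (214, 2), (215, 4), (216, 5), (217, 5), (218, 8), (219, 6), (220, 4), (221, 2), (222, 3), (223, 5), (224, 2), (225, 3), (226, 7), (227, 9), (228, 7), (229, 4), (230, 5), (231, 5), (232, 4), (233, 5), (234, 5), (235, 5), (236, 4), (237, 4), (238, 9), (239, 6), (240, 4), (241, 8), (242, 5), (243, 9), (244, 4), (245, 4), (246, 5), (247, 3), (248, 4), (249, 4), (250, 6), (251, 5), (252, 5), (253, 6), (254, 7), (255, 5), (256, 4), (257, 6), (258, 5), (259, 5), (260, 5), (261, 5), (262, 5), (263, 4), (264, 7), (265, 5), (266, 3), (267, 9),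 (268, 6), (269, 5), (270, 5), (271, 6), (272, 4), (273, 4), (274, 3), (275, 4), (276, 2), (277, 3), (278, 4), (279, 3), (280, 5), (281, 6), (282, 5), (283, 3), (284, 3), (285, 5), (286, 3), (287, 4), (288, 6), (289, 8), (290, 5), (291, 3), (292, 3), (293, 1), (294, 3), (295, 5), (296, 4), (297, 3), (298, 3), (299, 3), (300, 4), (301, 4), (302, 5), (303, 5), (304, 3), (305, 5), (306, 2), (307, 4), (308, 3), (309, 5), (310, 5), (311, 8), (312, 5), (313, 7), (314, 9), (315, 6), (316, 6), (317, 5), (318, 4), (319, 4), (320, 4), (321, 4), (322, 3), (323, 5), (324, 4), (325, 4), (326, 6), (327, 4), (328, 4), (329, 3), (330, 3), (331, 5), (332, 7), (333, 4), (334, 5), (335, 4), (336, 5), (337, 5), (338, 4), (339, 4), (340, 4), (341, 6), (342, 4), (343, 6), (344, 5), (345, 5), (346, 8), (347, 5), (348, 5), (349, 7), (350, 5), (351, 7), (352, 4), (353, 4), (354, 4), (355, 7), (356, 4), (357, 5), (358, 7), (359, 6), (360, 3), (361, 3), (362, 6), (363, 4), (364, 3), (365, 3), (366, 4), (367, 4),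 (368, 4), (369, 1), (370, 2), (371, 3), (372, 5), (373, 4), (374, 4), (375, 4), (376, 4), (377, 3), (378, 8), (379, 6), (380, 4), (381, 5), (382, 5), (383, 6), (384, 5), (385, 5), (386, 5), (387, 4), (388, 5), (389, 5), (390, 4), (391, 3), (392, 3), (393, 3), (394, 6), (395, 5), (396, 5), (397, 4), (398, 6), (399, 3), (400, 2), (401, 2), (402, 3), (403, 4), (404, 3), (405, 5), (406, 5), (407, 5), (408, 7), (409, 5), (410, 4), (411, 4), (412, 6), (413, 5), (414, 4), (415, 5), (416, 4), (417, 4), (418, 3), (419, 4), (420, 5), (421, 7), (422, 6), (423, 6), (424, 5), (425, 7), (426, 5), (427, 7), (428, 6), (429, 8), (430, 3), (431, 6), (432, 3), (433, 3), (434, 5), (435, 4), (436, 5), (437, 5), (438, 5), (439, 5), (440, 3), (441, 4), (442, 4), (443, 6), (444, 5), (445, 6), (446, 6), (447, 5), (448, 5), (449, 3), (450, 2), (451, 3), (452, 7), (453, 5), (454, 8), (455, 9), (456, 5), (457, 9), (458, 6), (459, 5), (460, 5), (461, 4), (462, 7), (463, 4), (464, 6), (465, 4), (466, 5), (467, 6),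 (468, 3), (469, 5), (470, 3), (471, 3), (472, 4), (473, 2), (474, 3), (475, 8), (476, 4), (477, 4), (478, 4), (479, 3), (480, 4), (481, 7), (482, 3), (483, 5), (484, 5), (485, 3), (486, 4), (487, 5), (488, 5), (489, 5), (490, 4), (491, 4), (492, 5), (493, 5), (494, 5), (495, 3), (496, 5), (497, 4), (498, 5), (499, 4), (500, 8), (501, 5), (502, 2), (503, 4), (504, 3), (505, 7), (506, 3), (507, 5), (508, 5), (509, 4), (510, 3), (511, 4), (512, 2), (513, 2), (514, 4), (515, 4), (516, 5), (517, 6), (518, 2), (519, 2), (520, 2), (521, 6), (522, 4), (523, 5), (524, 3), (525, 5), (526, 3), (527, 3), (528, 5), (529, 4), (530, 4), (531, 5), (532, 5), (533, 7), (534, 3), (535, 3), (536, 4), (537, 5), (538, 4), (539, 6), (540, 4), (541, 6), (542, 2), (543, 4), (544, 3), (545, 3), (546, 4), (547, 8), (548, 5), (549, 5), (550, 8), (551, 6), (552, 3), (553, 2), (554, 5), (555, 3), (556, 2), (557, 5), (558, 2), (559, 4), (560, 1), (561, 3), (562, 3), (563, 4), (564, 2), (565, 3), (566, 5), (567, 4),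 (568, 1), (569, 3), (570, 3), (571, 5), (572, 2), (573, 6), (574, 3), (575, 5), (576, 2), (577, 3), (578, 4), (579, 4), (580, 1), (581, 1), (582, 2), (583, 4), (584, 1), (585, 5), (586, 4), (588, 2), (589, 3), (592, 3), (593, 1), (595, 2), (596, 2), (597, 1), (598, 1), (599, 3), (600, 2), (601, 6), (602, 4), (603, 4), (604, 4), (605, 6), (606, 4), (607, 3), (608, 5), (609, 5), (610, 3), (611, 6), (612, 5), (613, 5), (614, 6), (615, 3), (616, 7), (617, 2), (618, 4), (619, 5), (620, 5), (621, 2), (622, 3), (623, 6), (624, 5), (625, 5), (626, 6), (627, 5), (628, 7), (629, 7), (630, 6), (631, 5), (632, 6), (633, 6), (634, 5), (635, 6), (636, 6), (637, 7), (638, 6), (639, 7), (640, 5), (641, 4), (642, 5), (643, 5), (644, 4), (645, 5), (646, 8), (647, 4), (648, 3), (649, 3), (650, 3), (651, 2), (652, 3), (653, 8), (654, 6), (655, 9), (656, 8), (657, 8), (658, 6), (659, 6), (660, 6), (661, 5), (662, 7), (663, 5), (664, 7), (665, 5), (666, 5), (667, 7), (668, 7), (669, 3), (670, 6), (671, 5),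 (672, 7), (673, 4), (674, 6), (675, 4), (676, 7), (677, 4), (678, 6), (679, 4), (680, 5), (681, 5), (682, 5), (683, 4), (684, 5), (685, 7), (686, 7), (687, 8), (688, 6), (689, 6), (690, 3), (691, 3), (692, 3), (693, 3), (694, 5), (695, 8), (696, 6), (697, 5), (698, 4), (699, 5), (700, 5), (701, 3), (702, 5), (703, 6), (704, 4), (705, 4), (706, 4), (707, 6), (708, 6), (709, 3), (710, 5), (711, 6), (712, 5), (713, 4), (714, 6), (715, 6), (716, 5), (717, 3), (718, 7), (719, 7), (720, 3), (721, 4), (722, 5), (723, 7), (724, 4), (725, 4), (726, 6), (727, 5), (728, 7), (729, 3), (730, 6), (731, 4), (732, 5), (733, 8), (734, 6), (735, 7), (736, 5), (737, 2), (738, 2), (739, 3), (740, 5), (741, 4), (742, 5), (743, 3), (744, 4), (745, 3), (746, 3), (747, 5), (748, 5), (749, 5), (750, 7), (751, 4), (752, 3), (753, 6), (754, 4), (755, 1), (756, 5), (757, 6), (758, 7), (759, 9), (760, 4), (761, 7), (762, 4), (763, 5), (764, 5), (765, 7), (766, 5), (767, 6), (768, 5), (769, 6), (770, 4), (771, 4),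 (772, 4), (773, 6), (774, 5), (775, 5), (776, 5), (777, 3), (778, 3), (779, 4), (780, 3), (781, 4), (782, 3), (783, 4), (784, 5), (785, 4), (786, 3), (787, 5), (788, 1), (789, 2), (790, 3), (791, 2), (792, 1), (793, 1), (794, 3), (795, 6), (796, 3), (797, 4), (798, 5), (799, 5), (800, 5), (801, 6), (802, 7), (803, 4), (804, 6), (805, 5), (806, 6), (807, 7), (808, 4), (809, 5), (810, 6), (811, 7), (812, 4), (813, 7), (814, 3), (815, 5), (816, 4), (817, 5), (818, 4), (819, 2), (820, 4), (821, 3), (822, 4), (823, 5), (824, 7), (825, 9), (826, 5), (827, 8), (828, 7), (829, 5), (830, 4), (831, 3), (832, 4), (833, 5), (834, 6), (835, 4), (836, 5), (837, 10), (838, 7), (839, 4), (840, 5), (841, 8), (842, 5), (843, 6), (844, 4), (845, 4), (846, 5), (847, 5), (848, 6), (849, 8), (850, 7), (851, 4), (852, 7), (853, 3), (854, 7), (855, 8), (856, 4), (857, 4), (858, 6), (859, 7), (860, 3), (861, 2), (862, 2), (863, 4), (864, 3), (865, 3), (866, 5), (867, 4), (868, 6), (869, 4), (870, 7), (871, 6),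 (872, 5), (873, 7), (874, 5), (875, 6), (876, 4), (877, 4), (878, 4), (879, 5), (880, 5), (881, 6), (882, 4), (883, 5), (884, 5), (885, 3), (886, 6), (887, 4), (888, 3), (889, 3), (890, 5), (891, 4), (892, 5), (893, 5), (894, 3), (895, 6), (896, 4), (897, 4), (898, 3), (899, 5), (900, 5), (901, 4), (902, 5), (903, 6), (904, 5), (905, 3), (906, 3), (907, 5), (908, 5), (909, 4), (910, 3), (911, 5), (912, 7), (913, 7), (914, 5), (915, 6), (916, 5), (917, 4), (918, 4), (919, 3), (920, 4), (921, 3), (922, 6), (923, 5), (924, 5), (925, 6), (926, 5), (927, 4), (928, 6), (929, 4), (930, 7), (931, 5), (932, 5), (933, 6), (934, 5), (935, 8), (936, 7), (937, 6), (938, 2), (939, 6), (940, 3), (941, 4), (942, 4), (943, 4), (944, 3), (945, 6), (946, 5), (947, 5), (948, 3), (949, 5), (950, 2), (951, 4), (952, 3), (953, 5), (954, 4), (955, 5), (956, 6), (957, 7), (958, 3), (959, 4), (960, 4), (961, 4), (962, 4), (963, 4), (964, 5), (965, 6), (966, 6), (967, 6), (968, 5), (969, 4), (970, 6), (971, 5),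 (972, 4), (973, 4), (974, 6), (975, 6), (976, 5), (977, 8), (978, 3), (979, 4), (980, 8), (981, 9), (982, 8), (983, 10), (984, 4), (985, 3), (986, 4), (987, 7), (988, 6), (989, 8), (990, 6), (991, 5), (992, 10), (993, 8), (994, 7), (995, 5), (996, 5), (997, 9), (998, 6), (999, 5), (1000, 5), (1001, 3), (1002, 3), (1003, 5), (1004, 8), (1005, 3), (1006, 5), (1007, 4), (1008, 5), (1009, 4), (1010, 6), (1011, 5), (1012, 3), (1013, 6), (1014, 7), (1015, 6), (1016, 4), (1017, 3), (1018, 5), (1019, 4), (1020, 5), (1021, 4), (1022, 6), (1023, 3), (1024, 6), (1025, 5), (1026, 7), (1027, 6), (1028, 3), (1029, 3), (1030, 3), (1031, 4), (1032, 3), (1033, 5), (1034, 3), (1035, 3), (1036, 5), (1037, 2), (1038, 3), (1039, 3), (1040, 3), (1041, 2), (1042, 4), (1043, 4), (1044, 7), (1045, 5), (1046, 3), (1047, 6), (1048, 7), (1049, 5), (1050, 6), (1051, 6), (1052, 7), (1053, 5), (1054, 8), (1055, 8), (1056, 5), (1057, 3), (1058, 6), (1059, 6), (1060, 7), (1061, 5), (1062, 3), (1063, 4), (1064, 3), (1065,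 4), (1066, 6), (1067, 4), (1068, 3), (1069, 2), (1070, 5), (1071, 1), (1072, 4), (1073, 5), (1074, 5), (1075, 6), (1076, 3), (1077, 9), (1078, 4), (1079, 2), (1080, 4), (1081, 2), (1082, 4), (1083, 4), (1084, 5), (1085, 4), (1086, 4), (1087, 7), (1088, 5), (1089, 4), (1090, 7), (1091, 6), (1092, 6), (1093, 7), (1094, 5), (1095, 5), (1096, 3), (1097, 7), (1098, 4), (1099, 7), (1100, 3), (1101, 6), (1102, 5), (1103, 6), (1104, 5), (1105, 8), (1106, 5), (1107, 5), (1108, 3), (1109, 4), (1110, 3), (1111, 7), (1112, 4), (1113, 3), (1114, 5), (1115, 5), (1116, 4), (1117, 3), (1118, 2), (1119, 5), (1120, 5), (1121, 4), (1122, 6), (1123, 6), (1124, 5), (1125, 4), (1126, 4), (1127, 4), (1128, 5), (1129, 5), (1130, 3), (1131, 6), (1132, 5), (1133, 5), (1134, 4), (1135, 3), (1136, 4), (1137, 4), (1138, 4), (1139, 4), (1140, 4), (1141, 4), (1142, 4), (1143, 4), (1144, 2), (1145, 2), (1146, 3), (1147, 4), (1148, 3), (1149, 3), (1150, 4), (1151, 4), (1152, 2), (1153, 3), (1154, 1), (1155, 3), (1156,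 7), (1157, 3), (1158, 5), (1159, 7), (1160, 4), (1161, 7), (1162, 1), (1163, 1), (1164, 3), (1165, 3), (1166, 3), (1167, 3), (1168, 4), (1169, 5), (1170, 4), (1171, 4), (1172, 4), (1173, 4), (1174, 4), (1175, 2), (1176, 2), (1177, 2), (1178, 5), (1179, 3), (1180, 2), (1181, 1), (1182, 4), (1183, 1)] [] = true := by decide +kernel

theorem terms_ok : termsOK 10 bases tR cR T B terms = true := (termsOK_append _ _ (termsOK_append _ _ (termsOK_append _ _ (termsOK_append _ _ (termsOK_append _ _ (termsOK_append _ _ (termsOK_append _ _ (termsOK_append _ _ (termsOK_append _ _ (termsOK_append _ _ (termsOK_append _ _ terms0_ok terms1_ok) terms2_ok) terms3_ok) terms4_ok) terms5_ok) terms6_ok) terms7_ok) terms8_ok) terms9_ok) terms10_ok) terms11_ok)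

variable {V : Type*} [AddCommGroup V] [DistribMulAction (alternatingGroup (Fin 10)) V]

/-- The table acts by scalars as soon as its generators do. -/
theorem acts (hp : ∀ x : V, 5 • x = 0) (v : V)
    (hg : ∀ g ∈ gens, el 10 g.1 • v = g.2 • v) : Acts (n := 10) v B := by
  have z := zero_ok
  simp only [Bool.and_eq_true] at z
  refine acts_of_actsOK (by norm_num) hp v B gens (fun g hgm => ⟨?_, hg g hgm⟩) steps
    (Nat.eq_of_beq_eq_true z.1.1) (Nat.eq_of_beq_eq_true z.1.2) steps_ok
  have hr := goodTab_of_repsOK genWords rfl gens_ok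
  simp only [gens, List.mem_cons, List.not_mem_nil, or_false] at hgm
  rcases hgm with rfl | rfl | rfl | rfl | rfl
  · exact (show get 0x86975314206789543210987651234059876432109876504321 0 = 654820000545 by decide +kernel) ▸ hr 0 (by decide)
  · exact (show get 0x86975314206789543210987651234059876432109876504321 1 = 384523579920 by decide +kernel) ▸ hr 1 (by decide)
  · exact (show get 0x86975314206789543210987651234059876432109876504321 2 = 654820057920 by decide +kernel) ▸ hr 2 (by decide)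
  · exact (show get 0x86975314206789543210987651234059876432109876504321 3 = 444685627920 by decide +kernel) ▸ hr 3 (by decide)
  · exact (show get 0x86975314206789543210987651234059876432109876504321 4 = 578064421920 by decide +kernel) ▸ hr 4 (by decide)

/-- No nonzero vector satisfies the hypotheses. -/
theorem eq_zero (hp : ∀ x : V, 5 • x = 0) (hX : NoFix 10 V) (v : V)
    (hg : ∀ g ∈ gens, el 10 g.1 • v = g.2 • v) (h0 : bval (n := 10) v base0 = 0) : v = 0 := by
  have hB := acts hp v hg
  have z := zero_ok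
  have hR := reps_ok
  simp only [Bool.and_eq_true] at z hR
  have hb : ∀ b ∈ bases, GoodTab 10 b.tbl b.cnt ∧ bval (n := 10) v b = 0 := by
    intro b hb
    simp only [bases, List.mem_append, List.mem_cons, List.not_mem_nil, or_false] at hb
    rcases hb with ((rfl) | hb) | rfl
    · exact ⟨goodTab_of_repsOK baseWords0 rfl baseWords0_ok, h0⟩
    · exact fixesOK_spec (by norm_num) hp hX hB fixes fixes_ok b hb
    · exact trivBase_spec (by norm_num) hp (by norm_num) v
  have hT : GoodTab 10 T.tbl T.cnt := by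
    have hs := sub_ok
    simp only [subOK, Bool.and_eq_true, List.all_eq_true, List.mem_range, Nat.blt_eq] at hs
    intro k hk
    rw [Nat.eq_of_beq_eq_true (hs.2 k hk).1.1.2]
    exact hB.good _ (hs.2 k hk).1.1.1
  exact eq_zero_of_cert (by norm_num) hp hB sub_ok (by decide) (Nat.eq_of_beq_eq_true z.2)
    (termsOK_spec (by norm_num) hp hB hT tau_ok
      (goodTab_of_repsOK rWords (Nat.eq_of_beq_eq_true hR.1) hR.2) (fun b h => (hb b h).1)
      (fun b h => (hb b h).2) terms terms_ok) sum_ok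

end CfsgLib.AltCent.FiveA
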